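import Groth.Agent.Lib.FlatDvr5.Main
import Mathlib.Algebra.TrivSqZeroExt.Basic
import Mathlib.RingTheory.Flat.Localization
import Mathlib.RingTheory.Flat.Stability

/-!
# The valuative criterion of flatness for finite modules over algebras of finite type
-/

set_option autoImplicit false
set_option backward.isDefEq.respectTransparency false
set_option linter.style.haveILetI false
set_option maxHeartbeats 800000

universe u

open TensorProduct IsLocalRing

namespace Groth.Agent.FlatDvrMod5

/-- Algebra version of the valuative criterion: flat if flat over every discrete valuation ring. -/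
theorem flat_algebra_of_dvr {A B : Type u} [CommRing A] [IsNoetherianRing A] [IsReduced A] [CommRing B]
    [Algebra A B] [Algebra.FiniteType A B]
    (h : ∀ (V : Type u) [CommRing V] [IsDomain V] [IsDiscreteValuationRing V] [Algebra A V],
      Module.Flat V (V ⊗[A] B)) :
    Module.Flat A B := by
  refine Module.flat_of_isLocalized_maximal (R := A) (S := B) (M := B)
    (fun q _ => LocalizedModule q.primeCompl B)
    (fun q _ => LocalizedModule.mkLinearMap q.primeCompl B) (fun q _ => ?_)
  haveI : IsNoetherianRing (Localization.AtPrime (q.comap (algebraMap A B))) :=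
    IsLocalization.isNoetherianRing (q.comap (algebraMap A B)).primeCompl _ inferInstance
  haveI : IsReduced (Localization.AtPrime (q.comap (algebraMap A B))) := inferInstance
  refine FlatDvr5.flat_atPrime_of_dvr (q.comap (algebraMap A B)) q rfl ?_
  intro V _ _ _ _ _ Q _ _ _
  haveI : Module.Flat V (V ⊗[A] B) := h V
  refine (FlatH4.flat_localization_iff Q).2 ?_
  exact Module.Flat.trans V (V ⊗[A] B) (Localization.AtPrime Q)

/-- The valuative criterion for a finite module over a polynomial ring (square zero extension). -/
theorem flat_of_dvr_polynomial {A : Type u} [CommRing A] [IsNoetherianRing A] [IsReduced A]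
    (n : ℕ) (M : Type u) [AddCommGroup M] [Module A M] [Module (MvPolynomial (Fin n) A) M]
    [IsScalarTower A (MvPolynomial (Fin n) A) M] [Module.Finite (MvPolynomial (Fin n) A) M]
    (h : ∀ (V : Type u) [CommRing V] [IsDomain V] [IsDiscreteValuationRing V] [Algebra A V],
      Module.Flat V (V ⊗[A] M)) :
    Module.Flat A M := by
  let P := MvPolynomial (Fin n) A
  letI : Module Pᵐᵒᵖ M := Module.compHom M ((RingHom.id P).fromOpposite mul_comm)
  haveI : IsCentralScalar P M := ⟨fun _ _ => rfl⟩
  letI : Module Aᵐᵒᵖ M := Module.compHom M ((RingHom.id A).fromOpposite mul_comm)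
  haveI : IsCentralScalar A M := ⟨fun _ _ => rfl⟩
  haveI : IsScalarTower A Pᵐᵒᵖ M := ⟨fun a p m => smul_assoc a (MulOpposite.unop p) m⟩
  let T := TrivSqZeroExt P M
  -- linear decomposition
  let e : T ≃ₗ[A] P × M := LinearEquiv.refl A (P × M)
  haveI : Algebra.FiniteType A T := by
    obtain ⟨s, hs⟩ := Module.Finite.fg_top (R := P) (M := M)
    classical
    let G : Finset T := (Finset.univ.image fun i => TrivSqZeroExt.inl (M := M) (MvPolynomial.X i : P)) ∪
      s.image (TrivSqZeroExt.inr (R := P))
    refine ⟨⟨G, ?_⟩⟩
    rw [eq_top_iff]
    rintro t -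
    set S := Algebra.adjoin A (G : Set T) with hS
    have hinl : ∀ p : P, TrivSqZeroExt.inl (M := M) p ∈ S := by
      intro p
      induction p using MvPolynomial.induction_on with
      | C a =>
        have : TrivSqZeroExt.inl (M := M) (MvPolynomial.C a : P) = algebraMap A T a := rfl
        rw [this]
        exact Subalgebra.algebraMap_mem _ a
      | add p q hp hq =>
        rw [TrivSqZeroExt.inl_add]
        exact add_mem hp hq
      | mul_X p i hp =>
        rw [TrivSqZeroExt.inl_mul]
        refine mul_mem hp (Algebra.subset_adjoin ?_)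
        simp [G]
    have hinr : ∀ m : M, TrivSqZeroExt.inr (R := P) m ∈ S := by
      intro m
      have hm : m ∈ Submodule.span P (s : Set M) := hs ▸ Submodule.mem_top
      induction hm using Submodule.span_induction with
      | mem x hx =>
        refine Algebra.subset_adjoin ?_
        simp only [G, Finset.coe_union, Finset.coe_image, Set.mem_union, Set.mem_image, Finset.mem_coe]
        exact Or.inr ⟨x, hx, rfl⟩
      | zero => simp
      | add x y _ _ hx hy =>
        rw [TrivSqZeroExt.inr_add]
        exact add_mem hx hy
      | smul p x _ hx =>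
        rw [← TrivSqZeroExt.inl_mul_inr]
        exact mul_mem (hinl p) hx
    rw [← TrivSqZeroExt.inl_fst_add_inr_snd_eq t]
    exact add_mem (hinl _) (hinr _)
  haveI : Module.Flat A T := by
    refine flat_algebra_of_dvr fun V _ _ _ _ => ?_
    haveI : Module.Flat V (V ⊗[A] M) := h V
    haveI : Module.Flat V (V ⊗[A] P) := inferInstance
    exact Module.Flat.of_linearEquiv ((e.baseChange A V).trans (TensorProduct.prodRight A V V P M))
  haveI : Module.Flat A (P × M) := Module.Flat.of_linearEquiv e.symm
  exact Module.Flat.of_retract (LinearMap.inr A P M) (LinearMap.snd A P M) (by ext; rfl)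

/-- The valuative criterion of flatness, module form. -/
theorem flat_of_dvr {A B : Type u} [CommRing A] [IsNoetherianRing A] [IsReduced A] [CommRing B]
    [Algebra A B] [Algebra.FiniteType A B]
    (M : Type u) [AddCommGroup M] [Module A M] [Module B M] [IsScalarTower A B M] [Module.Finite B M]
    (h : ∀ (V : Type u) [CommRing V] [IsDomain V] [IsDiscreteValuationRing V] [Algebra A V],
      Module.Flat V (V ⊗[A] M)) :
    Module.Flat A M := by
  obtain ⟨n, f, hf⟩ := Algebra.FiniteType.iff_quotient_mvPolynomial''.1 ‹Algebra.FiniteType A B›
  letI : Algebra (MvPolynomial (Fin n) A) B := f.toRingHom.toAlgebra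
  letI : Module (MvPolynomial (Fin n) A) M := Module.compHom M f.toRingHom
  haveI : IsScalarTower A (MvPolynomial (Fin n) A) M := by
    refine ⟨fun a p m => ?_⟩
    show f (a • p) • m = a • (f p • m)
    rw [map_smul, smul_assoc]
  haveI : IsScalarTower (MvPolynomial (Fin n) A) B M := ⟨fun p b m => mul_smul (f p) b m⟩
  haveI : Module.Finite (MvPolynomial (Fin n) A) B :=
    Module.Finite.of_surjective (Algebra.linearMap _ B) hf
  haveI : Module.Finite (MvPolynomial (Fin n) A) M := Module.Finite.trans B M
  exact flat_of_dvr_polynomial n M h

end Groth.Agent.FlatDvrMod5
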